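import Groth.Agent.H06Mod.StalkPullback
import Groth.Agent.H06Mod.StalkExact
import Groth.Agent.H8Props.FunDescent.Stalk
import Groth.Agent.H24NFlat.Split
import Groth.Agent.S12667
import Groth.Prelude.Def_KRR

/-!
# Complements of sub-bundles in projective bundles
-/

set_option autoImplicit false
set_option linter.style.haveILetI false
set_option backward.isDefEq.respectTransparency false
set_option backward.isDefEq.respectTransparency.types false

universe u

open CategoryTheory CategoryTheory.Limits AlgebraicGeometry TopologicalSpace TensorProduct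
open Groth.Agent.H06Mod Groth.Agent.H8Props

namespace Groth.Agent.H26ProjBd

attribute [local instance] stalkAlgebra

/-- A map onto an invertible module which is nonzero in every residue field is an epimorphism. -/
theorem epi_of_residue {W : Scheme.{u}} {F L : W.Modules} (hL : FlatMod.IsFinLocFreeOfRank 1 L) (φ : F ⟶ L)
    (h : ∀ w : W, (Scheme.Modules.pullback (W.fromSpecResidueField w)).map φ ≠ 0) : Epi φ := by
  refine H24NFlat.epi_of_stalk_surjective φ fun w => ?_
  by_contra hs
  refine h w (H24NFlat.hom_eq_zero_of_stalk _ fun z v => ?_)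
  let g := W.fromSpecResidueField w
  have hz : g z = w := W.fromSpecResidueField_apply w z
  obtain ⟨b⟩ := S12667.exists_stalk_basis hL (g z)
  have hc : ∀ m, ¬ IsUnit (b.repr (stalkLin φ (g z) m) 0) := by
    intro m hu
    apply hs
    rw [← hz]
    intro y
    obtain ⟨c, hc⟩ := hu.dvd (a := b.repr y 0)
    refine ⟨c • m, b.repr.injective (Finsupp.ext fun i => ?_)⟩
    rw [map_smul, map_smul, Finsupp.smul_apply, smul_eq_mul, Subsingleton.elim i 0, hc, mul_comm]
  have hf : IsField ((Spec (W.residueField w)).presheaf.stalk z) := by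
    refine isField_stalk_of_closure_mem_irreducibleComponents _ z ?_
    rw [show closure {z} = Set.univ from Set.eq_univ_of_forall fun y => subset_closure (Subsingleton.elim y z)]
    rw [irreducibleComponents_eq_singleton]
    rfl
  have hk : ∀ m, (g.stalkMap z) (b.repr (stalkLin φ (g z) m) 0) = 0 := fun m => by
    by_contra h0
    letI := hf.toField
    exact hc m ((isUnit_map_iff (g.stalkMap z).hom _).1 (isUnit_iff_ne_zero.2 h0))
  obtain ⟨t, rfl⟩ := (pullStalkEquiv g F z).surjective v
  rw [FunDescent.pullStalkEquiv_naturality g φ z t]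
  refine (LinearEquiv.map_eq_zero_iff _).2 ?_
  induction t using TensorProduct.induction_on with
  | zero => exact map_zero _
  | add a b ha hb => rw [map_add, ha, hb, add_zero]
  | tmul a m =>
    rw [LinearMap.lTensor_tmul, ← b.sum_repr (stalkLin φ (g z) m), Fin.sum_univ_one, tmul_smul]
    rw [show (b.repr (stalkLin φ (g z) m) 0) • (a ⊗ₜ[W.presheaf.stalk (g z)] b 0) =
      ((g.stalkMap z) (b.repr (stalkLin φ (g z) m) 0) * a) ⊗ₜ[W.presheaf.stalk (g z)] b 0 from rfl,
      hk, zero_mul, zero_tmul]

/-- The composition rule for classifying maps of invertible quotients. -/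
theorem classify_comp {X P Q T : Scheme.{u}} {π : P ⟶ X} {O1 : P.Modules} {E B : X.Modules}
    {q : (Scheme.Modules.pullback π).obj E ⟶ O1} {πB : Q ⟶ X} {O1B : Q.Modules}
    {qB : (Scheme.Modules.pullback πB).obj B ⟶ O1B} (f : E ⟶ B)
    (c : Q ⟶ P) (hc : c ≫ π = πB) (ec : (Scheme.Modules.pullback c).obj O1 ≅ O1B)
    (hcq : (Scheme.Modules.pullbackCongr hc).inv.app E ≫ (Scheme.Modules.pullbackComp c π).inv.app E ≫
      (Scheme.Modules.pullback c).map q ≫ ec.hom = (Scheme.Modules.pullback πB).map f ≫ qB)
    {g : T ⟶ X} (h : T ⟶ Q) (hg : h ≫ πB = g) {L : T.Modules} (e : (Scheme.Modules.pullback h).obj O1B ≅ L)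
    {s : (Scheme.Modules.pullback g).obj B ⟶ L}
    (hs : (Scheme.Modules.pullbackCongr hg).inv.app B ≫ (Scheme.Modules.pullbackComp h πB).inv.app B ≫
      (Scheme.Modules.pullback h).map qB ≫ e.hom = s) :
    ∃ (hg' : (h ≫ c) ≫ π = g) (e' : (Scheme.Modules.pullback (h ≫ c)).obj O1 ≅ L),
      (Scheme.Modules.pullbackCongr hg').inv.app E ≫ (Scheme.Modules.pullbackComp (h ≫ c) π).inv.app E ≫
        (Scheme.Modules.pullback (h ≫ c)).map q ≫ e'.hom = (Scheme.Modules.pullback g).map f ≫ s := by
  subst hg hc hs
  refine ⟨Category.assoc _ _ _, (Scheme.Modules.pullbackComp h c).symm.app O1 ≪≫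
    (Scheme.Modules.pullback h).mapIso ec ≪≫ e, ?_⟩
  have hA := congr_arg (fun t => NatTrans.app t E) (Scheme.Modules.pseudofunctor_associativity h c π)
  simp only [NatTrans.comp_app, Functor.whiskerRight_app, Functor.associator_hom_app, Functor.whiskerLeft_app,
    Category.id_comp, eqToHom_app] at hA
  simp only [Scheme.Modules.pullbackCongr, eqToIso_refl, Iso.refl_inv, NatTrans.id_app, Category.id_comp,
    eqToIso.inv, eqToHom_app] at hcq ⊢
  rw [(Scheme.Modules.pullbackComp h (c ≫ π)).inv.naturality_assoc, Functor.comp_map,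
    ← Functor.map_comp_assoc, ← hcq, Functor.map_comp, Functor.map_comp]
  have hA' : (Scheme.Modules.pullbackComp (h ≫ c) π).inv.app E =
      (Scheme.Modules.pullbackComp h (c ≫ π)).inv.app E ≫
      (Scheme.Modules.pullback h).map ((Scheme.Modules.pullbackComp c π).inv.app E) ≫
        (Scheme.Modules.pullbackComp h c).hom.app ((Scheme.Modules.pullback π).obj E) := by
    rw [← cancel_mono ((Scheme.Modules.pullbackComp (h ≫ c) π).hom.app E), Iso.inv_hom_id_app]
    simp only [Category.assoc]
    exact hA.symm
  refine (Category.id_comp _).trans ?_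
  rw [hA']
  simp only [Category.assoc, Iso.trans_hom, Iso.app_hom, Iso.symm_hom, Functor.mapIso_hom]
  congr 2
  erw [← (Scheme.Modules.pullbackComp h c).hom.naturality_assoc q]
  simp only [Functor.comp_map]
  congr 1
  exact Iso.hom_inv_id_app_assoc _ _ _

end Groth.Agent.H26ProjBd
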